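import Groth.Agent.AgVanish.PhiSurj
import Groth.Agent.AbPrim.Dual
import Groth.Agent.AgSymm.PowSurj

/-!
Algebraically or τ-equivalent to zero and translation invariant classes.
-/

set_option autoImplicit false
set_option backward.isDefEq.respectTransparency false
set_option backward.isDefEq.respectTransparency.types false
set_option maxHeartbeats 1000000
set_option linter.style.haveILetI false

universe u

open CategoryTheory CategoryTheory.Limits MonoidalCategory CartesianMonoidalCategory MonObj GrpObj AlgebraicGeometry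

noncomputable section

namespace Groth.Agent.AgVanish

attribute [local instance] W7Cube.law

open W7Cube (pull pull_pull pc pull_pc pc_const pc_id pull_cls)

variable {k : Type u} [Field k] [IsAlgClosed k] {A : Over (Spec (CommRingCat.of k))} [GrpObj A] [IsProper A.hom]
  [GeometricallyIntegral A.hom]

/-- `pc` along a translation fixes a class iff the modules are isomorphic. -/
theorem pc_cls_eq_iff {L M : A.left.Modules} (hL : PicF.IsInvertible L) (hM : PicF.IsInvertible M)
    (g : A ⟶ A) :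
    pc (PicGrp.cls L hL) g = PicGrp.cls M hM ↔ Nonempty ((Scheme.Modules.pullback g.left).obj L ≅ M) := by
  rw [pc, pull_cls, PicGrp.cls_eq_cls_iff]

set_option maxHeartbeats 2000000 in
/-- Algebraically equivalent to zero implies translation invariant. -/
theorem invariant_of_algEquiv {L : A.left.Modules} (hL : PicF.IsInvertible L)
    (h : Pic13.IsAlgEquivZero k A.left L) (a : 𝟙_ (Over (Spec (CommRingCat.of k))) ⟶ A) :
    pc (PicGrp.cls L hL) (𝟙 A * (toUnit A ≫ a)) = PicGrp.cls L hL := by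
  obtain ⟨Z, q, hZ, hlft, hqc, N, hN, t, t₀, ht, ht₀, ⟨i⟩, ⟨i₀⟩⟩ := h
  haveI := hZ
  haveI := hlft
  let T : Over (Spec (CommRingCat.of k)) := Over.mk q
  haveI : ConnectedSpace T.left := hZ
  haveI : IsLocallyNoetherian T.left := LocallyOfFiniteType.isLocallyNoetherian q
  haveI : Flat A.hom := inferInstance
  haveI : LocallyOfFinitePresentation A.hom := inferInstance
  haveI : GeometricallyConnected A.hom := W7See.geometricallyConnected_of_geometricallyIntegral A.hom
  haveI : Smooth A.hom := by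
    haveI : GrpObj (Over.mk A.hom) := inferInstanceAs (GrpObj A)
    exact smooth_of_grpObj A.hom
  haveI := isCommMonObj_of_isProper_of_geometricallyIntegral A
  let c : PicLoc.PicSet (A ⊗ T).left := PicGrp.cls (Y := (A ⊗ T).left) N hN
  let b : 𝟙_ (Over (Spec (CommRingCat.of k))) ⟶ T := Over.homMk t ht
  let b₀ : 𝟙_ (Over (Spec (CommRingCat.of k))) ⟶ T := Over.homMk t₀ ht₀
  -- slices
  let sl : (𝟙_ (Over (Spec (CommRingCat.of k))) ⟶ T) → (A ⊗ A ⟶ (A ⊗ A) ⊗ T) := fun x => lift (𝟙 _) (toUnit _ ≫ x)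
  have hval : ∀ (x : 𝟙_ (Over (Spec (CommRingCat.of k))) ⟶ T) (f : A ⊗ A ⟶ A),
      AbPrim.val c f (toUnit (A ⊗ A) ≫ x) = pc (pull (lift (𝟙 A) (toUnit A ≫ x)).left c) f := by
    intro x f
    rw [pc, pull_pull, ← Over.comp_left, comp_lift, Category.comp_id, ← Category.assoc,
      toUnit_unique (f ≫ toUnit A) (toUnit _)]
    rfl
  have hsl : ∀ x, pull (sl x).left (AbPrim.univDefect c) =
      pc (pull (lift (𝟙 A) (toUnit A ≫ x)).left c) (fst A A * snd A A) *
        (pc (pull (lift (𝟙 A) (toUnit A ≫ x)).left c) (fst A A) *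
          pc (pull (lift (𝟙 A) (toUnit A ≫ x)).left c) (snd A A))⁻¹ := by
    intro x
    rw [AbPrim.pull_univDefect]
    simp only [sl, lift_fst_assoc, lift_snd, Category.id_comp, AbPrim.defect, hval, W7Cube.pc_one, _root_.mul_one]
  have e₀ : pull (lift (𝟙 A) (toUnit A ≫ b₀)).left c = 1 := by
    rw [pull_cls, PicGrp.cls_eq_one_iff]
    exact ⟨(Scheme.Modules.pullbackCongr (by refine pullback.hom_ext ?_ ?_ <;> simp [Pic13.sliceAt, b₀, T] <;> first | exact (pullback.lift_fst _ _ _).symm | exact (pullback.lift_snd _ _ _).symm)).app N ≪≫ i₀⟩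
  have h0 : AbPrim.univDefect c = 1 := by
    obtain ⟨U, hU, eU⟩ := PicGrp.exists_eq_cls (AbPrim.univDefect c)
    have h1 : pull (sl b₀).left (AbPrim.univDefect c) = 1 := by
      have p1 : ∀ g : A ⊗ A ⟶ A, pc (1 : PicLoc.PicSet A.left) g = 1 := fun g => map_one _
      rw [hsl, e₀, p1, p1, p1, _root_.mul_one, mul_inv_cancel]
    refine AbPrim.univDefect_eq_one_of_connected c (b₀.left (IsLocalRing.closedPoint k)) ?_
    rw [eU, pull_cls, PicGrp.cls_eq_one_iff] at h1 ⊢
    exact (AVAmple.fiber_trivial_iff (A := A ⊗ A) (W := T) U b₀).2 h1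
  have h1 := hsl b
  rw [h0, map_one, eq_comm, mul_inv_eq_one] at h1
  have e₁ : pull (lift (𝟙 A) (toUnit A ≫ b)).left c = PicGrp.cls L hL := by
    rw [pull_cls, PicGrp.cls_eq_cls_iff]
    exact ⟨(Scheme.Modules.pullbackCongr (by refine pullback.hom_ext ?_ ?_ <;> simp [Pic13.sliceAt, b, T] <;> first | exact (pullback.lift_fst _ _ _).symm | exact (pullback.lift_snd _ _ _).symm)).app N ≪≫ i⟩
  rw [e₁] at h1
  have h2 := congrArg (pull (lift (𝟙 A) (toUnit A ≫ a)).left) h1
  rw [map_mul, pull_pc, pull_pc, pull_pc, MonObj.comp_mul, lift_fst, lift_snd, pc_const, _root_.mul_one, pc_id] at h2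
  exact h2

omit [IsAlgClosed k] in
/-- Translation by a product. -/
theorem translate_div_mul (c : PicLoc.PicSet A.left) (a y : 𝟙_ (Over (Spec (CommRingCat.of k))) ⟶ A) :
    pc c (𝟙 A * (toUnit A ≫ (a * y))) * c⁻¹ =
      pc c (𝟙 A * (toUnit A ≫ a)) * c⁻¹ * (pc c (𝟙 A * (toUnit A ≫ y)) * c⁻¹) := by
  have h := square_point c a y
  rw [← eq_mul_inv_iff_mul_eq] at h
  rw [h]
  simp only [_root_.mul_assoc, _root_.mul_left_comm c⁻¹]

/-- A class with a translation invariant power is translation invariant. -/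
theorem invariant_of_pow (c : PicLoc.PicSet A.left) {n : ℕ} (hn : n ≠ 0)
    (h : ∀ a : 𝟙_ (Over (Spec (CommRingCat.of k))) ⟶ A, pc (c ^ n) (𝟙 A * (toUnit A ≫ a)) = c ^ n)
    (a : 𝟙_ (Over (Spec (CommRingCat.of k))) ⟶ A) : pc c (𝟙 A * (toUnit A ≫ a)) = c := by
  haveI := isCommMonObj_of_isProper_of_geometricallyIntegral A
  haveI : JacobsonSpace A.left := LocallyOfFiniteType.jacobsonSpace A.hom
  let g : A.left ⟶ A.left := (𝟙 A ^ n : A ⟶ A).left
  have hc : IsClosed (g ⁻¹' {a.left (IsLocalRing.closedPoint k)}) :=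
    (pointEquivClosedPoint A.hom ⟨a.left, Over.w a⟩).2.preimage g.continuous
  obtain ⟨w, hw⟩ := (AgSymm.surjective_pow A hn).surj (a.left (IsLocalRing.closedPoint k))
  obtain ⟨z, hz, hzc⟩ := nonempty_inter_closedPoints ⟨w, hw⟩ hc.isLocallyClosed
  obtain ⟨b, rfl⟩ := AVAmple.exists_point (A := A) hzc
  obtain rfl : b ^ n = a := AVAmple.point_injective (by
    show (b ^ n).left _ = _
    rw [show b ^ n = b ≫ (𝟙 A ^ n) by rw [MonObj.comp_pow, Category.comp_id], Over.comp_left]
    exact hz)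
  let D : (𝟙_ (Over (Spec (CommRingCat.of k))) ⟶ A) → PicLoc.PicSet A.left :=
    fun x => pc c (𝟙 A * (toUnit A ≫ x)) * c⁻¹
  have hD : ∀ m : ℕ, D (b ^ m) = D b ^ m := by
    intro m
    induction m with
    | zero =>
      simp only [D, pow_zero, ← Hom.one_def]
      rw [show toUnit A ≫ (1 : 𝟙_ (Over (Spec (CommRingCat.of k))) ⟶ A) = 1 from MonObj.comp_one _, _root_.mul_one,
        pc_id, mul_inv_cancel]
    | succ m ih => rw [pow_succ, pow_succ, ← ih]; exact translate_div_mul c _ _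
  have hb : D b ^ n = 1 := by
    have := h b
    rw [pc, map_pow] at this
    simp only [D, pc, mul_pow, inv_pow]
    rw [this, mul_inv_cancel]
  have := hD n
  rw [hb] at this
  exact mul_inv_eq_one.1 this

/-- An ample invertible module exists. -/
theorem exists_ample : ∃ L : A.left.Modules, CohB1.IsAmple L := by
  obtain ⟨L, s, hL, hx, hU⟩ := AVAmple.exists_affine_genLocus (A := A)
  exact ⟨L, AVAmple.isAmple_algClosed (A := A) hL s ⟨_, hx⟩ hU⟩

/-- Translation invariant classes are algebraically equivalent to zero. -/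
theorem algEquiv_of_invariant {L : A.left.Modules} (hL : PicF.IsInvertible L)
    (h : ∀ a : 𝟙_ (Over (Spec (CommRingCat.of k))) ⟶ A,
      pc (PicGrp.cls L hL) (𝟙 A * (toUnit A ≫ a)) = PicGrp.cls L hL) :
    Pic13.IsAlgEquivZero k A.left L := by
  haveI : Subsingleton (Spec (CommRingCat.of k)) := inferInstanceAs (Subsingleton (PrimeSpectrum k))
  haveI : IsIntegral A.left := GeometricallyIntegral.isIntegral_of_subsingleton A.hom
  obtain ⟨H, hH⟩ := exists_ample (A := A)
  obtain ⟨x, hx⟩ := exists_translate (PicGrp.cls H hH.1) (PicGrp.cls L hL) (AVAmple.finite_fixing hH) h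
  obtain ⟨M, hM, eM⟩ := PicGrp.exists_eq_cls
    (pc (PicGrp.cls H hH.1) (fst A A * snd A A) * (pc (PicGrp.cls H hH.1) (fst A A))⁻¹)
  have hs : ∀ b : 𝟙_ (Over (Spec (CommRingCat.of k))) ⟶ A,
      PicGrp.cls _ (PicLoc.isInvertible_pullback (lift (𝟙 A) (toUnit A ≫ b)).left hM) =
        pc (PicGrp.cls H hH.1) (𝟙 A * (toUnit A ≫ b)) * (PicGrp.cls H hH.1)⁻¹ := fun b => slice_cls M hM _ b (by
    rw [← eM, map_mul, map_inv, pull_pc, pull_pc, MonObj.comp_mul, lift_fst, lift_snd, pc_id])
  have e : ∀ (b : 𝟙_ (Over (Spec (CommRingCat.of k))) ⟶ A),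
      Pic13.sliceAt k A.left A.hom b.left (Over.w b) = (lift (𝟙 A) (toUnit A ≫ b)).left := fun b => by
    refine pullback.hom_ext ?_ ?_ <;> simp [Pic13.sliceAt] <;> first | exact (pullback.lift_fst _ _ _).symm | exact (pullback.lift_snd _ _ _).symm
  have h1 := hs x
  rw [hx, mul_inv_cancel_right, PicGrp.cls_eq_cls_iff] at h1
  obtain ⟨i⟩ := h1
  have h2 := hs η[A]
  rw [← Hom.one_def, _root_.mul_one, pc_id, mul_inv_cancel, PicGrp.cls_eq_one_iff] at h2
  obtain ⟨i₀⟩ := h2
  exact ⟨A.left, A.hom, inferInstance, inferInstance, inferInstance, M, hM, x.left, η[A].left, Over.w x, Over.w η[A],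
    ⟨(Scheme.Modules.pullbackCongr (e x)).app M ≪≫ i⟩,
    ⟨(Scheme.Modules.pullbackCongr (e η[A])).app M ≪≫ i₀⟩⟩

end Groth.Agent.AgVanish
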