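import Groth.Agent.W7FlatBC.Sections
import Groth.Agent.QCGen.RestrictLoc
import Groth.Agent.TMul.AmpleBasis
import Groth.Agent.W7See.Trivial
set_option autoImplicit false
set_option backward.isDefEq.respectTransparency false
set_option backward.isDefEq.respectTransparency.types false
universe u
open CategoryTheory CategoryTheory.Limits AlgebraicGeometry Opposite TopologicalSpace

namespace Groth.Agent.AgVanish

theorem exists_retract_modK (k : Type u) [Field k] (M : ModuleCat.{u} k) (hM : ¬ Subsingleton M) :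
    ∃ (p : M ⟶ ModuleCat.of k k) (i : ModuleCat.of k k ⟶ M), i ≫ p = 𝟙 _ := by
  obtain ⟨m, hm⟩ : ∃ m : M, m ≠ 0 := by
    rw [not_subsingleton_iff_nontrivial] at hM
    exact exists_ne 0
  obtain ⟨φ, hφ⟩ := Module.Projective.exists_dual_eq_one k hm
  let p0 : M ⟶ ModuleCat.of k k := ModuleCat.ofHom φ
  let i0 : ModuleCat.of k k ⟶ M := ModuleCat.ofHom (LinearMap.toSpanSingleton k M m)
  have h : i0 ≫ p0 = 𝟙 _ := by
    ext
    simp [i0, p0, hφ]
  exact ⟨p0, i0, h⟩

theorem exists_retract (k : Type u) [Field k] (V : (Spec (CommRingCat.of k)).Modules) (hV : Coh.IsQCoh V)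
    (hn : ¬ Subsingleton Γ(V, ⊤)) :
    ∃ (p : V ⟶ Coh.structureModule (Spec (CommRingCat.of k))) (i : Coh.structureModule (Spec (CommRingCat.of k)) ⟶ V), i ≫ p = 𝟙 _ := by
  haveI : IsIso (Scheme.Modules.fromTildeΓ (R := CommRingCat.of k) V) :=
    @Scheme.Modules.isIso_fromTildeΓ_of_isQuasicoherent (CommRingCat.of k) V hV
  let M : ModuleCat.{u} k := (moduleSpecΓFunctor (R := CommRingCat.of k)).obj V
  have hM : ¬ Subsingleton M := hn
  obtain ⟨p0, i0, h⟩ := exists_retract_modK k M hM
  refine ⟨inv (Scheme.Modules.fromTildeΓ (R := CommRingCat.of k) V) ≫ (tilde.functor (CommRingCat.of k)).map p0 ≫ tildeSelf.hom, tildeSelf.inv ≫ (tilde.functor (CommRingCat.of k)).map i0 ≫ (Scheme.Modules.fromTildeΓ (R := CommRingCat.of k) V), ?_⟩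
  simp only [Category.assoc, IsIso.hom_inv_id_assoc]
  rw [← (tilde.functor (CommRingCat.of k)).map_comp_assoc, h, CategoryTheory.Functor.map_id, Category.id_comp]
  exact Iso.inv_hom_id _

theorem isZero_push (k : Type u) [Field k] {X : Scheme.{u}} (f : X ⟶ Spec (CommRingCat.of k)) (L : X.Modules)
    (h : ∀ s : Γ(L, ⊤), s = 0) : IsZero ((Scheme.Modules.pushforward f).obj L) := by
  refine QCGen.isZero_of_sections fun O s => ?_
  haveI : Subsingleton (Spec (CommRingCat.of k)) := inferInstanceAs (Subsingleton (PrimeSpectrum k))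
  by_cases hO : O = ⊤
  · subst hO
    exact h s
  · have : O = ⊥ := by
      refine TopologicalSpace.Opens.ext (Set.eq_empty_of_forall_notMem fun x hx => hO ?_)
      exact TopologicalSpace.Opens.ext (Set.eq_univ_of_forall fun y => Subsingleton.elim x y ▸ hx)
    subst this
    exact QC.section_eq_of_locally fun x hx => hx.elim

end Groth.Agent.AgVanish
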