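import Groth.Agent.AgVanish.Fibre
import Groth.Agent.AVAmple.Translate
import Groth.Agent.AVAmple.Mumford
import Groth.Agent.TwistOverVan.Basic
import Groth.Agent.S7804
import Groth.Agent.S12004

/-!
`φ_L` of a non-degenerate class is onto the translation invariant classes.
-/

set_option autoImplicit false
set_option backward.isDefEq.respectTransparency false
set_option backward.isDefEq.respectTransparency.types false
set_option maxHeartbeats 1000000
set_option linter.style.haveILetI false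

universe u

open CategoryTheory CategoryTheory.Limits MonoidalCategory CartesianMonoidalCategory MonObj GrpObj AlgebraicGeometry
open TopologicalSpace

noncomputable section

namespace Groth.Agent.AgVanish

attribute [local instance] W7Cube.law

open W7Cube (pull pull_pull pc pull_pc pc_const pc_id pull_cls)

variable {k : Type u} [Field k] {A : Over (Spec (CommRingCat.of k))} {W : Over (Spec (CommRingCat.of k))}

/-- Fibre cohomology at a rational point is the cohomology of the slice. -/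
theorem fiberH_iff (M : (A ⊗ W).left.Modules) (hM : Coh.IsQCoh M) (b : 𝟙_ (Over (Spec (CommRingCat.of k))) ⟶ W) (p : ℕ) :
    Subsingleton (CohIII.fiberH (snd A W).left M (b.left (IsLocalRing.closedPoint k)) p) ↔
      Subsingleton (Coh.HH A.left ((Scheme.Modules.pullback (lift (𝟙 A) (toUnit A ≫ b)).left).obj M) p) := by
  set f : (A ⊗ W).left ⟶ W.left := (snd A W).left
  set j : A.left ⟶ (A ⊗ W).left := (lift (𝟙 A) (toUnit A ≫ b)).left
  let β : Spec (CommRingCat.of k) ⟶ W.left := b.left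
  have hβ : β ≫ W.hom = 𝟙 _ := Over.w b
  set y := b.left (IsLocalRing.closedPoint k)
  have hjs : j ≫ f = A.hom ≫ β := by
    show (lift (𝟙 A) (toUnit A ≫ b)).left ≫ (snd A W).left = _
    rw [← Over.comp_left, lift_snd, Over.comp_left]; rfl
  have hjf : j ≫ (fst A W).left = 𝟙 _ := by
    show (lift (𝟙 A) (toUnit A ≫ b)).left ≫ (fst A W).left = _
    rw [← Over.comp_left, lift_fst, Over.id_left]
  let φ₀ := Spec.map (W.left.descResidueField (Scheme.stalkClosedPointTo β))
  have hφ₀ : φ₀ ≫ W.left.fromSpecResidueField y = β :=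
    Scheme.descResidueField_stalkClosedPointTo_fromSpecResidueField (CommRingCat.of k) W.left β
  let ψ : A.left ⟶ f.fiber y := pullback.lift j (A.hom ≫ φ₀) (by rw [hjs, Category.assoc, hφ₀])
  have hψ : ψ ≫ f.fiberι y = j := pullback.lift_fst _ _ _
  let φ : f.fiber y ⟶ A.left := f.fiberι y ≫ (fst A W).left
  have hfib : f.fiberι y ≫ f = f.fiberToSpecResidueField y ≫ W.left.fromSpecResidueField y := f.fiber_fac y
  have hφ : φ ≫ j = f.fiberι y := by
    have e1 : (φ ≫ j) ≫ (fst A W).left = f.fiberι y ≫ (fst A W).left := by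
      rw [Category.assoc, hjf, Category.comp_id]
    have e2 : (φ ≫ j) ≫ f = f.fiberι y ≫ f := by
      rw [Category.assoc, hjs]
      have hA : φ ≫ A.hom = (f.fiberι y ≫ f) ≫ W.hom := by
        rw [Category.assoc, Category.assoc, Over.w (fst A W)]
        exact congrArg _ (Over.w (snd A W)).symm
      rw [← Category.assoc, hA, hfib, Category.assoc, Category.assoc]
      exact congrArg (f.fiberToSpecResidueField y ≫ ·)
        (W7Cube.fromSpecResidueField_section β W.hom hβ (IsLocalRing.closedPoint k))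
    exact pullback.hom_ext e1 e2
  have h1 : ψ ≫ φ = 𝟙 _ := by rw [← Category.assoc, hψ, hjf]
  have h2 : φ ≫ ψ = 𝟙 _ := by
    have e : (φ ≫ ψ) ≫ f.fiberι y = 𝟙 _ ≫ f.fiberι y := by rw [Category.assoc, hψ, hφ, Category.id_comp]
    refine pullback.hom_ext e ?_
    rw [← cancel_mono (W.left.fromSpecResidueField y)]
    change ((φ ≫ ψ) ≫ f.fiberToSpecResidueField y) ≫ _ = (𝟙 _ ≫ f.fiberToSpecResidueField y) ≫ _
    simp only [Category.assoc, ← f.fiber_fac y]
    simp only [← Category.assoc, e]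
  haveI : IsIso φ := ⟨ψ, h2, h1⟩
  haveI : IsIso ψ := ⟨φ, h1, h2⟩
  let i1 : (Scheme.Modules.pullback φ).obj ((Scheme.Modules.pullback j).obj M) ≅ CohIII.fiberMod f M y :=
    (Scheme.Modules.pullbackComp φ j).app M ≪≫ (Scheme.Modules.pullbackCongr hφ).app M
  let i2 : (Scheme.Modules.pullback ψ).obj (CohIII.fiberMod f M y) ≅ (Scheme.Modules.pullback j).obj M :=
    (Scheme.Modules.pullbackComp ψ _).app M ≪≫ (Scheme.Modules.pullbackCongr hψ).app M
  exact ⟨fun h => CohQC.hh_subsingleton_of_iso i2 p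
      (TwistOverVan.subsingleton_hh_pullback_iso ψ _ (QC.isQCoh_pullback _ hM) p h),
    fun h => CohQC.hh_subsingleton_of_iso i1 p
      (TwistOverVan.subsingleton_hh_pullback_iso φ _ (QC.isQCoh_pullback _ hM) p h)⟩

variable [GrpObj A] [IsProper A.hom] [GeometricallyIntegral A.hom] [IsAlgClosed k]

/-- A nontrivial translation invariant class has no cohomology. -/
theorem hh_zero_of_invariant {N : A.left.Modules} (hN : PicF.IsInvertible N)
    (hinv : ∀ a : 𝟙_ (Over (Spec (CommRingCat.of k))) ⟶ A,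
      pc (PicGrp.cls N hN) (𝟙 A * (toUnit A ≫ a)) = PicGrp.cls N hN)
    (hne : PicGrp.cls N hN ≠ 1) (p : ℕ) : Subsingleton (Coh.HH A.left N p) := by
  have h := (S12004.result k A N hN).1 fun a => by
    have := hinv a
    rwa [pc, pull_cls, PicGrp.cls_eq_cls_iff] at this
  rw [show fst A A * snd A A = μ[A] by rw [Hom.mul_def, lift_fst_snd, Category.id_comp]] at h
  exact (S7804.result k A N hN h).1 (fun h1 => hne ((PicGrp.cls_eq_one_iff hN).2 h1)) p

omit [IsAlgClosed k] in
/-- The theorem of the square at points. -/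
theorem square_point (c : PicLoc.PicSet A.left) (a y : 𝟙_ (Over (Spec (CommRingCat.of k))) ⟶ A) :
    pc c (𝟙 A * (toUnit A ≫ (a * y))) * c = pc c (𝟙 A * (toUnit A ≫ a)) * pc c (𝟙 A * (toUnit A ≫ y)) := by
  have h := W7Cube.cube_rel c (𝟙 A) (toUnit A ≫ a) (toUnit A ≫ y)
  simp only [← MonObj.comp_mul, pc_const, pc_id, _root_.mul_one] at h
  rw [_root_.mul_assoc, ← MonObj.comp_mul] at h
  exact h

omit [IsAlgClosed k] in
/-- Translates differ by translation invariant classes. -/
theorem translate_div_invariant (c : PicLoc.PicSet A.left) (a y : 𝟙_ (Over (Spec (CommRingCat.of k))) ⟶ A) :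
    pull (𝟙 A * (toUnit A ≫ a)).left (pc c (𝟙 A * (toUnit A ≫ y)) * c⁻¹) = pc c (𝟙 A * (toUnit A ≫ y)) * c⁻¹ := by
  rw [map_mul, map_inv, AVAmple.translate_mul]
  change pc c (𝟙 A * (toUnit A ≫ (a * y))) * (pc c (𝟙 A * (toUnit A ≫ a)))⁻¹ = _
  rw [eq_mul_inv_iff_mul_eq, mul_right_comm, square_point, mul_inv_cancel_comm]

omit [IsAlgClosed k] in
/-- Cohomology of the inverse image along a slice from fibre cohomology. -/
theorem slice_cls (M : (A ⊗ A).left.Modules) (hM : PicF.IsInvertible M) (x : PicLoc.PicSet A.left)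
    (b : 𝟙_ (Over (Spec (CommRingCat.of k))) ⟶ A) (hx : pull (lift (𝟙 A) (toUnit A ≫ b)).left (PicGrp.cls M hM) = x) :
    PicGrp.cls _ (PicLoc.isInvertible_pullback (lift (𝟙 A) (toUnit A ≫ b)).left hM) = x := by
  rw [← hx, pull_cls]

set_option maxHeartbeats 2000000 in
/-- `φ` of a non-degenerate class is onto the translation invariant classes. -/
theorem exists_translate (c d : PicLoc.PicSet A.left)
    (hnd : {x : 𝟙_ (Over (Spec (CommRingCat.of k))) ⟶ A | pc c (𝟙 A * (toUnit A ≫ x)) = c}.Finite)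
    (hd : ∀ a : 𝟙_ (Over (Spec (CommRingCat.of k))) ⟶ A, pc d (𝟙 A * (toUnit A ≫ a)) = d) :
    ∃ x : 𝟙_ (Over (Spec (CommRingCat.of k))) ⟶ A, pc c (𝟙 A * (toUnit A ≫ x)) = d * c := by
  by_contra hne
  simp only [not_exists] at hne
  haveI : IsCommMonObj A := isCommMonObj_of_isProper_of_geometricallyIntegral A
  obtain ⟨_, _, _⟩ := AVAmple.fibre_facts (A := A) (W := A)
  haveI : IsLocallyNoetherian A.left := LocallyOfFiniteType.isLocallyNoetherian A.hom
  haveI : JacobsonSpace A.left := LocallyOfFiniteType.jacobsonSpace A.hom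
  haveI : IsLocallyNoetherian (A ⊗ A).left := LocallyOfFiniteType.isLocallyNoetherian (snd A A).left
  letI : (A ⊗ A).left.Over (Spec (CommRingCat.of k)) := ⟨(A ⊗ A).hom⟩
  let f := (snd A A).left
  have hfl : ∀ (N : (A ⊗ A).left.Modules), PicF.IsInvertible N → FlatMod.IsFlatOver f N := fun N hN =>
    W7Hull.isFlatOver_of_isInvertible f hN
  obtain ⟨M, hM, eM⟩ := PicGrp.exists_eq_cls
    (pc c (fst A A * snd A A) * (pc (d * c) (fst A A))⁻¹ * (pc c (snd A A))⁻¹)
  let β : A ⊗ A ⟶ A ⊗ A := lift (snd A A) (fst A A)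
  have hM' := PicLoc.isInvertible_pullback β.left hM
  have hq : Coh.IsQCoh M := TMul.isQCoh_of_isInvertible hM
  let M' := (Scheme.Modules.pullback β.left).obj M
  have s1 : ∀ b : 𝟙_ (Over (Spec (CommRingCat.of k))) ⟶ A,
      PicGrp.cls _ (PicLoc.isInvertible_pullback (lift (𝟙 A) (toUnit A ≫ b)).left hM) =
        pc c (𝟙 A * (toUnit A ≫ b)) * (d * c)⁻¹ := fun b => slice_cls M hM _ b (by
    rw [← eM, map_mul, map_mul, map_inv, map_inv, pull_pc, pull_pc, pull_pc, MonObj.comp_mul, lift_fst, lift_snd,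
      pc_id, pc_const, inv_one, _root_.mul_one])
  have s2 : ∀ b : 𝟙_ (Over (Spec (CommRingCat.of k))) ⟶ A,
      PicGrp.cls _ (PicLoc.isInvertible_pullback (lift (𝟙 A) (toUnit A ≫ b)).left hM') =
        pc c (𝟙 A * (toUnit A ≫ b)) * c⁻¹ := fun b => slice_cls M' hM' _ b (by
    rw [← pull_cls β.left M hM, ← eM, pull_pull, ← Over.comp_left, map_mul, map_mul, map_inv, map_inv, pull_pc,
      pull_pc, pull_pc, MonObj.comp_mul]
    simp only [β, comp_lift, lift_fst, lift_snd, pc_const, pc_id, inv_one, _root_.mul_one]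
    rw [_root_.mul_comm (toUnit A ≫ b) (𝟙 A)])
  have hcl : Subsingleton (Spec (CommRingCat.of k)) := inferInstanceAs (Subsingleton (PrimeSpectrum k))
  -- all fibre cohomology of `M` vanishes
  have v1 : ∀ (y : A.left), IsClosed ({y} : Set A.left) → ∀ p, Subsingleton (CohIII.fiberH f M y p) := by
    intro y hy p
    obtain ⟨b, rfl⟩ := AVAmple.exists_point (A := A) hy
    rw [fiberH_iff M hq b p]
    refine hh_zero_of_invariant (PicLoc.isInvertible_pullback _ hM) (fun a => ?_) ?_ p
    · rw [s1, pc, _root_.mul_inv_rev, ← _root_.mul_assoc, map_mul, translate_div_invariant, map_inv]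
      have := hd a
      rw [pc] at this
      rw [this]
    · rw [s1]
      exact fun h => hne b (mul_inv_eq_one.1 h)
  have v1' := fiberH_subsingleton_of_rpush_zero f ((⟨TMul.isQCoh_of_isInvertible hM, TMul.isFT_of_isInvertible hM⟩ : Coh.IsCoh M)) (hfl M hM)
  have hR : ∀ (q : ℕ) (O : A.left.Opens) (s : Γ((Coh.Rpush f q).obj M, O)), s = 0 := fun q O s =>
    sections_zero_of_fiberH f ((⟨TMul.isQCoh_of_isInvertible hM, TMul.isFT_of_isInvertible hM⟩ : Coh.IsCoh M)) (hfl M hM) q ⊤ (fun y _ => by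
      obtain ⟨z, hz, hzc⟩ := nonempty_inter_closedPoints (Z := closure ({y} : Set A.left)) ⟨y, subset_closure rfl⟩
        isClosed_closure.isLocallyClosed
      obtain ⟨U, hzU, hU⟩ := W7Cech.exists_nhd_vanish f ((⟨TMul.isQCoh_of_isInvertible hM, TMul.isFT_of_isInvertible hM⟩ : Coh.IsCoh M)) (hfl M hM) q z (v1 z hzc q)
      exact hU y ((specializes_iff_mem_closure.2 hz).mem_open U.2 hzU)) O le_top s
  -- so the total cohomology vanishes
  have hH : ∀ q, Subsingleton (Coh.HH (A ⊗ A).left M q) := fun q => by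
    obtain ⟨e⟩ := nonempty_rpush_top k f M q fun n r => by
      have hfq : RPushQC.IsFlasque ((Coh.Rpush f n).obj M) := fun {P Q} h a =>
        ⟨0, by rw [hR n P a, map_zero]⟩
      haveI := RPushQC.isFlasque_toAb hfq
      exact SiteCoh.flasque_acyclic (Coh.toAb ((Coh.Rpush f n).obj M)) (⊤ : A.left.Opens) r
    haveI : Subsingleton Γ((Coh.Rpush f q).obj M, ⊤) := subsingleton_of_forall_eq 0 (hR q ⊤)
    exact e.symm.injective.subsingleton
  have hββ : β ≫ β = 𝟙 _ := by ext <;> simp [β]
  haveI : IsIso β.left := ⟨β.left, by rw [← Over.comp_left, hββ]; rfl, by rw [← Over.comp_left, hββ]; rfl⟩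
  have hH' : ∀ q, Subsingleton (Coh.HH (A ⊗ A).left M' q) := fun q =>
    TwistOverVan.subsingleton_hh_pullback_iso β.left M hq q (hH q)
  -- the other projection
  let Z : Set A.left := (fun x : 𝟙_ (Over (Spec (CommRingCat.of k))) ⟶ A => x.left (IsLocalRing.closedPoint k)) ''
    {x | pc c (𝟙 A * (toUnit A ≫ x)) = c}
  have hZc : ∀ z ∈ Z, IsClosed ({z} : Set A.left) := by
    rintro _ ⟨x, -, rfl⟩
    exact (pointEquivClosedPoint A.hom ⟨x.left, Over.w x⟩).2
  have v2 := fiberH_subsingleton_of_finite f ((⟨TMul.isQCoh_of_isInvertible hM', TMul.isFT_of_isInvertible hM'⟩ : Coh.IsCoh M')) (hfl M' hM') k Z (hnd.image _) hZc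
    (fun y hy hyZ p => by
      obtain ⟨b, rfl⟩ := AVAmple.exists_point (A := A) hy
      rw [fiberH_iff M' (TMul.isQCoh_of_isInvertible hM') b p]
      refine hh_zero_of_invariant (PicLoc.isInvertible_pullback _ hM') (fun a => ?_) ?_ p
      · rw [s2, pc, translate_div_invariant]
      · rw [s2]
        exact fun h => hyZ ⟨b, mul_inv_eq_one.1 h, rfl⟩) hH'
  have h0 := v2 ((η[A]).left (IsLocalRing.closedPoint k)) 0
  rw [fiberH_iff M' (TMul.isQCoh_of_isInvertible hM') η[A] 0] at h0
  have e0 := s2 η[A]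
  rw [← Hom.one_def, _root_.mul_one, pc_id, mul_inv_cancel, PicGrp.cls_eq_one_iff] at e0
  obtain ⟨i⟩ := e0
  haveI : IsIntegral A.left := GeometricallyIntegral.isIntegral_of_subsingleton A.hom
  haveI := CohQC.hh_subsingleton_of_iso i 0 h0
  have h := (Sheaf.H.equiv₀ (Coh.toAb (Coh.structureModule A.left))
    (Limits.isTerminalTop (α := TopologicalSpace.Opens A.left))).symm.toEquiv.subsingleton
  exact one_ne_zero (α := Γ(A.left, ⊤)) (@Subsingleton.elim _ h _ _)

end Groth.Agent.AgVanish
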