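import Groth.Agent.W7FlatBC.Sections

/-!
Degenerate Leray: global sections of acyclic higher direct images compute cohomology; direct images concentrated
at finitely many closed points are acyclic.
-/

set_option autoImplicit false
set_option backward.isDefEq.respectTransparency false
set_option backward.isDefEq.respectTransparency.types false
set_option linter.style.haveILetI false
set_option maxHeartbeats 1000000

universe u

open CategoryTheory Category Limits Opposite TopologicalSpace AlgebraicGeometry Abelian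
open Groth.Agent.SiteCoh Groth.Agent.CohQC Groth.Agent.ProjCech
open Groth.Agent.W7Cech (closedG exists_cls)
open Groth.Agent.QC (res res_res)

noncomputable section

namespace Groth.Agent.AgVanish

/-- If all higher direct images are acyclic on the base, their global sections are the cohomology. -/
theorem nonempty_rpush_top (A : Type u) [CommRing A] {X : Scheme.{u}} [X.Over (Spec (CommRingCat.of A))]
    {S : Scheme.{u}} (f : X ⟶ S) [HasInjectiveResolutions X.Modules] (M : X.Modules) (p : ℕ)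
    (hac : ∀ q : ℕ, Acyc (J := Opens.grothendieckTopology S) (⊤ : S.Opens) ((toAbF S).obj ((Coh.Rpush f q).obj M))) :
    Nonempty (Γ((Coh.Rpush f p).obj M, ⊤) ≃+ Coh.HH X M p) := by
  let R := injectiveResolution M
  let P := ((Coh.push f).mapHomologicalComplex (ComplexShape.up ℕ)).obj R.cocomplex
  let I := R.cocomplex
  have hexI : ∀ m, I.ExactAt (m + 1) := R.cocomplex_exactAt_succ
  have hfl : ∀ n, RPushQC.IsFlasque (R.cocomplex.X n) := fun n => RPushQC.isFlasque_of_injective _
  let e0 : I.cycles 0 ≅ M :=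
    IsLimit.conePointUniqueUpToIso (R.cocomplex.cyclesIsKernel 0 1 (by simp)) R.isLimitKernelFork
  obtain ⟨ψ₁, hs₁, hk₁, hl₁⟩ := exists_cls A I hexI hfl p
  let ρ : ∀ m, Γ(I.X m, ⊤) →+ Γ(P.X m, ⊤) := fun m => AddMonoidHom.id _
  have hρd : ∀ i j (w : Γ(I.X i, ⊤)), ρ j ((I.d i j).app ⊤ w) = (P.d i j).app ⊤ (ρ i w) := fun i j w => rfl
  let T := toAbF S
  have : PreservesFiniteLimits T := inferInstance
  have : PreservesFiniteColimits T := CohQC.toSheaf_preservesFiniteColimits S.ringCatSheaf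
  have : T.PreservesHomology := Functor.preservesHomologyOfExact T
  let K := (T.mapHomologicalComplex (ComplexShape.up ℕ)).obj P
  have hKX : ∀ n, Acyc (J := Opens.grothendieckTopology S) (⊤ : S.Opens) (K.X n) := fun n q =>
    haveI := RPushQC.isFlasque_toAb (hfl n)
    haveI : TopCat.Sheaf.IsFlasque ((CohTop.push f.base).obj (Coh.toAb (R.cocomplex.X n))) :=
      TopCat.Sheaf.IsFlasque.pushforward_isFlasque (Coh.toAb (R.cocomplex.X n)) f.base
    flasque_acyclic ((CohTop.push f.base).obj (Coh.toAb (R.cocomplex.X n))) (⊤ : S.Opens) q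
  have hKH : ∀ n, Acyc (J := Opens.grothendieckTopology S) (⊤ : S.Opens) (K.homology n) := fun n =>
    acyc_of_iso (T.mapIso (R.isoRightDerivedObj (Coh.push f) n) ≪≫ ((P.sc n).mapHomologyIso T).symm) (hac n)
  let θ : (K.homology p).obj.obj (op (⊤ : S.Opens)) ≃+ Γ(P.homology p, ⊤) :=
    (((sheafToPresheaf _ _).mapIso ((P.sc p).mapHomologyIso T)).app (op (⊤ : S.Opens))).addCommGroupIsoToAddEquiv
  let θc : (K.cycles p).obj.obj (op (⊤ : S.Opens)) ≃+ Γ(P.cycles p, ⊤) :=
    (((sheafToPresheaf _ _).mapIso ((P.sc p).mapCyclesIso T)).app (op (⊤ : S.Opens))).addCommGroupIsoToAddEquiv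
  have hθ : ∀ y, (P.homologyπ p).app ⊤ (θc y) = θ ((K.homologyπ p).hom.app (op (⊤ : S.Opens)) y) := fun y =>
    (ConcreteCategory.congr_hom (NatTrans.congr_app (congrArg (fun m => m.hom)
      (CohFinite.homologyπ_mapHomologyIso (P.sc p) T)) (op (⊤ : S.Opens))) y).symm
  have hθi : ∀ y, (P.iCycles p).app ⊤ (θc y) = (K.iCycles p).hom.app (op (⊤ : S.Opens)) y := fun y =>
    ConcreteCategory.congr_hom (NatTrans.congr_app (congrArg (fun m => m.hom)
      ((P.sc p).mapCyclesIso_hom_iCycles T)) (op (⊤ : S.Opens))) y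
  have hi : Function.Injective ((P.iCycles p).app ⊤) := Groth.Agent.QC.app_injective_of_mono (P.iCycles p) ⊤
  have hz : ∀ s : closedG I p ⊤, ∃ c, (P.iCycles p).app ⊤ c = ρ p s.1 := fun s => by
    have hs0 : (P.d p (p + 1)).app ⊤ (ρ p s.1) = 0 := s.2
    obtain ⟨y, hy⟩ := exists_cycle_section (U := (⊤ : S.Opens)) K p (ρ p s.1) hs0
    exact ⟨θc y, (hθi y).trans hy⟩
  choose z hz using hz
  have hzu : ∀ s c, (P.iCycles p).app ⊤ c = ρ p s.1 → z s = c := fun s c h => hi ((hz s).trans h.symm)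
  let ψ₂ : closedG I p ⊤ →+ Γ(P.homology p, ⊤) :=
    AddMonoidHom.mk' (fun s => (P.homologyπ p).app ⊤ (z s)) fun s t => by
      rw [hzu (s + t) (z s + z t) (by rw [map_add, hz, hz, ← map_add]; rfl), map_add]
  have hs₂ : Function.Surjective ψ₂ := fun x => by
    obtain ⟨y, hy⟩ := homologyπ_surjective K hKX hKH p (θ.symm x)
    let w : Γ(I.X p, ⊤) := (P.iCycles p).app ⊤ (θc y)
    have hw' : (I.d p (p + 1)).app ⊤ w = 0 := ConcreteCategory.congr_hom (congrArg
        (fun m : P.cycles p ⟶ P.X (p + 1) => Scheme.Modules.Hom.app m ⊤) (P.iCycles_d p (p + 1))) _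
    refine ⟨⟨w, hw'⟩, ?_⟩
    change (P.homologyπ p).app ⊤ (z _) = x
    rw [hzu ⟨w, hw'⟩ (θc y) rfl, hθ, hy, AddEquiv.apply_symm_apply]
  have hk₂ : ∀ s : closedG I p ⊤, ψ₂ s = 0 ↔ ∃ w, (I.d ((ComplexShape.up ℕ).prev p) p).app ⊤ w = s.1 := by
    intro s
    constructor
    · intro hs
      have hy : (K.homologyπ p).hom.app (op (⊤ : S.Opens)) (θc.symm (z s)) = 0 := θ.injective (by
        rw [← hθ, AddEquiv.apply_symm_apply, map_zero]
        exact hs)
      rcases p with _ | m
      · refine ⟨0, ?_⟩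
        have : IsIso (K.homologyπ 0).hom := inferInstanceAs (IsIso ((sheafToPresheaf _ _).map (K.homologyπ 0)))
        have h0 : θc.symm (z s) = 0 :=
          ((ConcreteCategory.isIso_iff_bijective ((K.homologyπ 0).hom.app (op (⊤ : S.Opens)))).mp inferInstance).1
            (hy.trans (map_zero _).symm)
        rw [map_zero]
        refine Eq.trans ?_ (hz s)
        rw [← AddEquiv.apply_symm_apply θc (z s), h0, map_zero, map_zero]
      · obtain ⟨k, hk⟩ := homologyπ_eq_zero K hKX hKH m (θc.symm (z s)) hy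
        suffices ∀ j, j = m → ∃ w, (I.d j (m + 1)).app ⊤ w = s.1 from this _ (CochainComplex.prev_nat_succ m)
        rintro j rfl
        refine ⟨k, Eq.trans ?_ (hz s)⟩
        rw [← AddEquiv.apply_symm_apply θc (z s), hθi, ← hk]
        exact (ConcreteCategory.congr_hom (NatTrans.congr_app
          (congr_arg (fun (f : K.X j ⟶ K.X (j + 1)) => f.hom) (K.toCycles_i j (j + 1))) (op (⊤ : S.Opens))) k).symm
    · rintro ⟨w, hw⟩
      change (P.homologyπ p).app ⊤ (z s) = 0
      rw [hzu s ((P.toCycles ((ComplexShape.up ℕ).prev p) p).app ⊤ w) (by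
        rw [← hw, hρd]
        exact ConcreteCategory.congr_hom (congrArg
          (fun m : P.X ((ComplexShape.up ℕ).prev p) ⟶ P.X p => Scheme.Modules.Hom.app m ⊤)
          (P.toCycles_i ((ComplexShape.up ℕ).prev p) p)) _)]
      exact ConcreteCategory.congr_hom (congrArg
        (fun m : P.X ((ComplexShape.up ℕ).prev p) ⟶ P.homology p => Scheme.Modules.Hom.app m ⊤)
        (P.toCycles_comp_homologyπ ((ComplexShape.up ℕ).prev p) p)) _
  let E := equivOfKerEq ψ₂ ψ₁ hs₂ hs₁ fun s => (hk₂ s).trans (hk₁ s).symm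
  have hE : ∀ s, E (ψ₂ s) = ψ₁ s := fun s => by
    have : (QuotientAddGroup.quotientKerEquivOfSurjective ψ₂ hs₂).symm (ψ₂ s) = (s : _ ⧸ ψ₂.ker) :=
      (AddEquiv.symm_apply_eq _).2 rfl
    simp only [E, equivOfKerEq, AddEquiv.trans_apply, this]
    rfl
  let a₀ : (Coh.Rpush f p).obj M ≅ P.homology p := R.isoRightDerivedObj (Coh.push f) p
  let La : Γ((Coh.Rpush f p).obj M, ⊤) ≃+ Γ(P.homology p, ⊤) :=
    { toFun := a₀.hom.app ⊤
      invFun := a₀.inv.app ⊤
      left_inv := fun x => ConcreteCategory.congr_hom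
        (congrArg (fun m : (Coh.Rpush f p).obj M ⟶ (Coh.Rpush f p).obj M => Scheme.Modules.Hom.app m ⊤) a₀.hom_inv_id) x
      right_inv := fun x => ConcreteCategory.congr_hom
        (congrArg (fun m : P.homology p ⟶ P.homology p => Scheme.Modules.Hom.app m ⊤) a₀.inv_hom_id) x
      map_add' := map_add _ }
  exact ⟨La.trans (E.trans (CohFinite.hhEquiv A e0 p).toAddEquiv)⟩

/-- A module with no sections away from finitely many closed points is flasque. -/
theorem isFlasque_of_finite {S : Scheme.{u}} (N : S.Modules) (Z : Set S) (hZ : Z.Finite)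
    (hcl : ∀ z ∈ Z, IsClosed ({z} : Set S)) (h : ∀ O : S.Opens, (∀ x ∈ O, x ∉ Z) → ∀ s : Γ(N, O), s = 0) :
    RPushQC.IsFlasque N := by
  intro P Q hPQ a
  have hC : IsClosed (Z ∩ (P : Set S)) := by
    have e : Z ∩ (P : Set S) = ⋃ z ∈ Z ∩ (P : Set S), {z} := (Set.biUnion_of_singleton _).symm
    rw [e]
    exact (hZ.inter_of_left _).isClosed_biUnion fun z hz => hcl z hz.1
  let C : S.Opens := ⟨(Z ∩ (P : Set S))ᶜ, hC.isOpen_compl⟩
  obtain ⟨s, hs, -⟩ := RPushQC.glue N (P := P) (Q := Q ⊓ C) (T := Q) (R := P ⊓ (Q ⊓ C)) hPQ inf_le_left inf_le_left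
    inf_le_right
    (fun x hx => by
      by_cases hxP : x ∈ P
      · exact Or.inl hxP
      · exact Or.inr ⟨hx, fun h' => hxP h'.2⟩)
    le_rfl a 0 (by
      rw [map_zero]
      refine h _ (fun x (hx : x ∈ (P ⊓ (Q ⊓ C) : S.Opens)) hxZ => ?_) _
      exact hx.2.2 ⟨hxZ, hx.1⟩)
  exact ⟨s, hs⟩

/-- Finitely supported higher direct images with vanishing total cohomology vanish. -/
theorem sections_zero_of_finite (A : Type u) [CommRing A] {X : Scheme.{u}} [X.Over (Spec (CommRingCat.of A))]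
    {S : Scheme.{u}} (f : X ⟶ S) [HasInjectiveResolutions X.Modules] (M : X.Modules)
    (Z : Set S) (hZ : Z.Finite) (hcl : ∀ z ∈ Z, IsClosed ({z} : Set S))
    (h : ∀ (q : ℕ) (O : S.Opens), (∀ x ∈ O, x ∉ Z) → ∀ s : Γ((Coh.Rpush f q).obj M, O), s = 0)
    (hH : ∀ q : ℕ, Subsingleton (Coh.HH X M q)) (p : ℕ) (O : S.Opens) (s : Γ((Coh.Rpush f p).obj M, O)) : s = 0 := by
  have hf : ∀ q, RPushQC.IsFlasque ((Coh.Rpush f q).obj M) := fun q => isFlasque_of_finite ((Coh.Rpush f q).obj M) Z hZ hcl (h q)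
  obtain ⟨e⟩ := nonempty_rpush_top A f M p fun q r =>
    haveI := RPushQC.isFlasque_toAb (hf q)
    flasque_acyclic (Coh.toAb ((Coh.Rpush f q).obj M)) (⊤ : S.Opens) r
  obtain ⟨t, rfl⟩ := hf p (le_top : O ≤ ⊤) s
  haveI := hH p
  rw [show t = 0 from e.injective (Subsingleton.elim _ _), map_zero]

end Groth.Agent.AgVanish
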