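import Groth.Agent.W7Cech.GrauertMain
import Groth.Agent.AgVanish.Leray

/-!
Vanishing of all higher direct images is vanishing of all fibre cohomology.
-/

set_option autoImplicit false
set_option backward.isDefEq.respectTransparency false
set_option backward.isDefEq.respectTransparency.types false
set_option linter.style.haveILetI false

universe u

open CategoryTheory CategoryTheory.Limits AlgebraicGeometry TopologicalSpace Opposite
open Groth.Agent.FlatCx

noncomputable section

namespace Groth.Agent.AgVanish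

variable {X S : Scheme.{u}} (f : X ⟶ S) [IsProper f] [IsLocallyNoetherian S]
  [HasInjectiveResolutions X.Modules] {F : X.Modules} (hF : Coh.IsCoh F) (hfl : FlatMod.IsFlatOver f F)

include hF hfl in
theorem fiberH_subsingleton_of_rpush_zero (h : ∀ (q : ℕ) (O : S.Opens) (s : Γ((Coh.Rpush f q).obj F, O)), s = 0)
    (y : S) (p : ℕ) : Subsingleton (CohIII.fiberH f F y p) := by
  obtain ⟨V, hV, hy, -⟩ := exists_isAffineOpen_mem_and_subset (X := S) (x := y) (U := ⊤) trivial
  obtain ⟨m⟩ := W7Cech.nonempty_Model f hF hfl hV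
  haveI := m.noeth
  haveI hz : ∀ n : ℕ, Subsingleton Γ((Coh.Rpush f n).obj F, V) := fun n => subsingleton_of_forall_eq 0 (h n V)
  have hflat := W7Cech.flatX m.L m.hL
  have he := m.epi_of_flat f p (fun n _ => inferInstance) p le_rfl
  obtain ⟨e⟩ := m.hR p
  haveI : Subsingleton (Hm m.L (p : ℤ)) := e.symm.injective.subsingleton
  have hW := (preservesEpi_iff_flat_opc m.L (p : ℤ) hflat (by simp)).1 he
  have hT : ∀ M, IsZero (CohIII.T m.L (p : ℤ) M) := fun M => by
    haveI : Subsingleton (CohIII.T m.L (p : ℤ) M) := (comparison_bijective m.L (p : ℤ) hflat hW M).2.subsingleton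
    exact ModuleCat.isZero_of_subsingleton _
  rw [show y = hV.fromSpec (hV.primeIdealOf ⟨y, hy⟩) from (hV.fromSpec_primeIdealOf ⟨y, hy⟩).symm, m.hsub]
  exact (W7Cech.isZero_T_iff_dRank m.L m.hL (p : ℤ) _).1 (hT _)

include hF hfl in
/-- Sections of a higher direct image vanish where the fibre cohomology does. -/
theorem sections_zero_of_fiberH (p : ℕ) (U : S.Opens) (h : ∀ y ∈ U, Subsingleton (CohIII.fiberH f F y p))
    (O : S.Opens) (hO : O ≤ U) (s : Γ((Coh.Rpush f p).obj F, O)) : s = 0 := by
  refine QC.section_eq_of_locally fun x hx => ?_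
  obtain ⟨V, hV, hxV, hVO⟩ := exists_isAffineOpen_mem_and_subset (X := S) (x := x) (U := O) hx
  refine ⟨V, hVO, hxV, ?_⟩
  obtain ⟨m⟩ := W7Cech.nonempty_Model f hF hfl hV
  haveI := m.noeth
  obtain ⟨e⟩ := m.hR p
  haveI : Subsingleton (CohIII.T m.L (p : ℤ) (ModuleCat.of Γ(S, V) Γ(S, V))) :=
    ModuleCat.subsingleton_of_isZero (m.isZero_T f p (fun y hy => h y (hO (hVO hy))) _)
  haveI : Subsingleton (Hm m.L (p : ℤ)) := (HmEquivT m.L (W7Cech.flatX m.L m.hL) (p : ℤ)).injective.subsingleton
  haveI : Subsingleton Γ((Coh.Rpush f p).obj F, V) := e.injective.subsingleton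
  exact Subsingleton.elim _ _

include hF hfl in
/-- Fibre cohomology vanishing at the closed points off a finite set of closed points and vanishing total
cohomology force vanishing of all fibre cohomology. -/
theorem fiberH_subsingleton_of_finite (A : Type u) [CommRing A] [X.Over (Spec (CommRingCat.of A))] [JacobsonSpace S]
    (Z : Set S) (hZ : Z.Finite) (hcl : ∀ z ∈ Z, IsClosed ({z} : Set S))
    (h : ∀ y : S, IsClosed ({y} : Set S) → y ∉ Z → ∀ p, Subsingleton (CohIII.fiberH f F y p))
    (hH : ∀ q : ℕ, Subsingleton (Coh.HH X F q)) (y : S) (p : ℕ) : Subsingleton (CohIII.fiberH f F y p) := by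
  have hZc : IsClosed Z := by
    rw [← Set.biUnion_of_singleton Z]
    exact hZ.isClosed_biUnion fun z hz => hcl z hz
  have h' : ∀ (y : S), y ∉ Z → ∀ p, Subsingleton (CohIII.fiberH f F y p) := fun y hy p => by
    obtain ⟨z, ⟨hz, hzZ⟩, hzc⟩ := nonempty_inter_closedPoints (Z := closure ({y} : Set S) ∩ Zᶜ)
      ⟨y, subset_closure rfl, hy⟩ (isClosed_closure.isLocallyClosed.inter hZc.isOpen_compl.isLocallyClosed)
    obtain ⟨U, hzU, hU⟩ := W7Cech.exists_nhd_vanish f hF hfl p z (h z hzc hzZ p)
    exact hU y ((specializes_iff_mem_closure.2 hz).mem_open U.2 hzU)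
  exact fiberH_subsingleton_of_rpush_zero f hF hfl
    (sections_zero_of_finite A f F Z hZ hcl (fun q O hO s =>
      sections_zero_of_fiberH f hF hfl q O (fun y hy => h' y (hO y hy) q) O le_rfl s) hH) y p

end Groth.Agent.AgVanish
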