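import Groth.Agent.AgVanish.Leray

/-!
Cohomology vanishes in the degrees where all lower direct images vanish.
-/

set_option autoImplicit false
set_option backward.isDefEq.respectTransparency false
set_option backward.isDefEq.respectTransparency.types false
set_option linter.style.haveILetI false
set_option maxHeartbeats 1000000

universe u

open CategoryTheory Category Limits Opposite TopologicalSpace AlgebraicGeometry Abelian
open Groth.Agent.SiteCoh Groth.Agent.CohQC Groth.Agent.ProjCech
open Groth.Agent.W7Cech (closedG exists_cls)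
open Groth.Agent.QC (res res_res)

noncomputable section

namespace Groth.Agent.AgVanish

variable {C : Type u} [SmallCategory C] {J : GrothendieckTopology C} {U : C}
  (K : CochainComplex (Sheaf J AddCommGrpCat.{u}) ℕ)

/-- cycles are acyclic as far as the homology vanishes -/
theorem acyc_cycles_le (hK : ∀ n, Acyc U (K.X n)) (N : ℕ) (hH : ∀ n, n ≤ N → Acyc U (K.homology n)) :
    ∀ n, n ≤ N → Acyc U (K.cycles n)
  | 0, h => acyc_of_iso (asIso (K.homologyπ 0)).symm (hH 0 h)
  | n + 1, h => acyc_middle (seqH_shortExact K n)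
      (acyc_right (seqZ_shortExact K n) (acyc_cycles_le hK N hH n (by omega)) (hK n)) (hH (n + 1) h)

theorem acyc_of_isZero {G : Sheaf J AddCommGrpCat.{u}} (h : IsZero G) : Acyc U G := fun p => by
  refine subsingleton_of_forall_eq 0 fun x => ?_
  rw [← Ext.comp_mk₀_id x, show 𝟙 G = 0 from h.eq_of_src _ _, Ext.mk₀_zero, Ext.comp_zero]

/-- closed sections are boundaries where the homology sheaves vanish -/
theorem exists_primitive (hK : ∀ n, Acyc U (K.X n)) (m : ℕ) (hz : ∀ n, n ≤ m + 1 → IsZero (K.homology n))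
    (z : (K.cycles (m + 1)).obj.obj (op U)) : ∃ k, (K.toCycles m (m + 1)).hom.app (op U) k = z := by
  have hz0 : (K.homologyπ (m + 1)).hom.app (op U) z = 0 := by
    rw [show K.homologyπ (m + 1) = 0 from (hz (m + 1) le_rfl).eq_of_tgt _ _]
    rfl
  obtain ⟨c, rfl⟩ := sections_exact (seqH_shortExact K m) U z hz0
  have : Subsingleton (CohSite.HU (seqZ K m).X₁ 1 U) :=
    acyc_cycles_le K hK m (fun n hn => acyc_of_isZero (hz n (by omega))) m le_rfl 0
  obtain ⟨k, rfl⟩ := sections_surjective (seqZ_shortExact K m) U c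
  have e : K.toCycles m (m + 1) = cokernel.π (K.iCycles m) ≫ bdToCycles K m := (cokernel.π_desc _ _ _).symm
  exact ⟨k, ConcreteCategory.congr_hom
    (NatTrans.congr_app (congr_arg (fun (f : K.X m ⟶ K.cycles (m + 1)) => f.hom) e) (op U)) k⟩

/-- **vanishing of the low direct images** -/
theorem subsingleton_hh_of_rpush_low (A : Type u) [CommRing A] {X : Scheme.{u}} [X.Over (Spec (CommRingCat.of A))]
    {S : Scheme.{u}} (f : X ⟶ S) [HasInjectiveResolutions X.Modules] (M : X.Modules) (p : ℕ)
    (hR : ∀ q, q ≤ p → IsZero ((Coh.Rpush f q).obj M)) : Subsingleton (Coh.HH X M p) := by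
  let R := injectiveResolution M
  let P := ((Coh.push f).mapHomologicalComplex (ComplexShape.up ℕ)).obj R.cocomplex
  let I := R.cocomplex
  have hexI : ∀ m, I.ExactAt (m + 1) := R.cocomplex_exactAt_succ
  have hfl : ∀ n, RPushQC.IsFlasque (R.cocomplex.X n) := fun n => RPushQC.isFlasque_of_injective _
  let e0 : I.cycles 0 ≅ M :=
    IsLimit.conePointUniqueUpToIso (R.cocomplex.cyclesIsKernel 0 1 (by simp)) R.isLimitKernelFork
  obtain ⟨ψ₁, hs₁, hk₁, hl₁⟩ := exists_cls A I hexI hfl p
  let T := toAbF S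
  have : PreservesFiniteLimits T := inferInstance
  have : PreservesFiniteColimits T := CohQC.toSheaf_preservesFiniteColimits S.ringCatSheaf
  have : T.PreservesHomology := Functor.preservesHomologyOfExact T
  let K := (T.mapHomologicalComplex (ComplexShape.up ℕ)).obj P
  have hKX : ∀ n, Acyc (J := Opens.grothendieckTopology S) (⊤ : S.Opens) (K.X n) := fun n q =>
    haveI := RPushQC.isFlasque_toAb (hfl n)
    haveI : TopCat.Sheaf.IsFlasque ((CohTop.push f.base).obj (Coh.toAb (R.cocomplex.X n))) :=
      TopCat.Sheaf.IsFlasque.pushforward_isFlasque (Coh.toAb (R.cocomplex.X n)) f.base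
    flasque_acyclic ((CohTop.push f.base).obj (Coh.toAb (R.cocomplex.X n))) (⊤ : S.Opens) q
  have hKH : ∀ n, n ≤ p → IsZero (K.homology n) := fun n hn =>
    (T.map_isZero (hR n hn)).of_iso (T.mapIso (R.isoRightDerivedObj (Coh.push f) n) ≪≫
      ((P.sc n).mapHomologyIso T).symm).symm
  suffices h : ∀ s : closedG I p ⊤, ∃ w, (I.d ((ComplexShape.up ℕ).prev p) p).app ⊤ w = s.1 by
    haveI : Subsingleton (Coh.HH X (I.cycles 0) p) := subsingleton_of_forall_eq 0 fun x => by
      obtain ⟨s, rfl⟩ := hs₁ x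
      exact (hk₁ s).2 (h s)
    exact (CohFinite.hhEquiv A e0 p).symm.injective.subsingleton
  intro s
  obtain ⟨y, hy⟩ := exists_cycle_section (U := (⊤ : S.Opens)) K p s.1 s.2
  rcases p with _ | m
  · refine ⟨0, ?_⟩
    rw [map_zero, ← hy, show K.iCycles 0 = 0 from
      ((hKH 0 le_rfl).of_iso (asIso (K.homologyπ 0))).eq_of_src _ _]
    rfl
  · obtain ⟨k, hk⟩ := exists_primitive K hKX m hKH y
    suffices ∀ j, j = m → ∃ w, (I.d j (m + 1)).app ⊤ w = s.1 from this _ (CochainComplex.prev_nat_succ m)
    rintro j rfl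
    refine ⟨k, Eq.trans ?_ hy⟩
    rw [← hk]
    exact (ConcreteCategory.congr_hom (NatTrans.congr_app
      (congr_arg (fun (f : K.X j ⟶ K.X (j + 1)) => f.hom) (K.toCycles_i j (j + 1))) (op (⊤ : S.Opens))) k).symm

end Groth.Agent.AgVanish
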