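import Groth.Agent.AgVanish.Invariant
import Groth.Agent.TMul.RelAmple
import Groth.Agent.TMul.AmpleBasis
import Groth.Agent.TMul.Pullback

/-!
Pullback along a surjection has finite kernel on translation invariant classes.
-/

set_option autoImplicit false
set_option backward.isDefEq.respectTransparency false
set_option backward.isDefEq.respectTransparency.types false
set_option maxHeartbeats 1000000
set_option linter.style.haveILetI false

universe u

open CategoryTheory CategoryTheory.Limits MonoidalCategory CartesianMonoidalCategory MonObj GrpObj AlgebraicGeometry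
open TopologicalSpace

noncomputable section

namespace Groth.Agent.AgVanish

attribute [local instance] W7Cube.law

open W7Cube (pull pull_pull pc pull_pc pc_const pc_id pull_cls)

/-- Over an integral scheme whose functions form a field a module isomorphism class trivialising an ample class
forces the image into the affine loci. -/
theorem genLocus_eq_top_of_ne {W : Scheme.{u}} [IsIntegral W] (hF : ∀ c : Γ(W, ⊤), c ≠ 0 → IsUnit c)
    (φ : Coh.structureModule W ⟶ Coh.structureModule W) {x : W} (hx : x ∈ CohB1.genLocus _ φ) :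
    CohB1.genLocus _ φ = ⊤ := by
  refine top_le_iff.1 (TMul.le_genLocus φ ?_)
  let c : Γ(W, ⊤) := TMul.val φ ⊤
  have hc : c ≠ 0 := by
    intro h0
    obtain ⟨U, hxU, hU⟩ := (TMul.mem_genLocus_iff φ).1 hx
    haveI : Nonempty U := ⟨⟨x, hxU⟩⟩
    have hv : TMul.val φ U = 0 := by
      rw [← TMul.res_val φ (le_top : U ≤ ⊤), show TMul.val φ ⊤ = 0 from h0, map_zero]
    exact one_ne_zero (α := Γ(W, U)) ((hU U le_rfl).1 (by simp [hv]))
  intro V hV
  have hu : IsUnit (W.presheaf.map (homOfLE hV).op c) := (hF c hc).map _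
  have e : (fun r : Γ(W, V) => r • QC.res (Coh.structureModule W) hV (TMul.val φ ⊤)) =
      fun r : Γ(W, V) => r * W.presheaf.map (homOfLE hV).op c := rfl
  rw [e]
  exact hu.unit.mulRight.bijective

variable {k : Type u} [Field k] [IsAlgClosed k] {B : Over (Spec (CommRingCat.of k))} [IsProper B.hom]

/-- An ample class trivial on a proper integral source has finite image. -/
theorem finite_range_of_trivial {W : Scheme.{u}} [IsIntegral W] (g : W ⟶ B.left) [IsProper (g ≫ B.hom)]
    {H : B.left.Modules} (hH : CohB1.IsAmple H)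
    (e : Nonempty ((Scheme.Modules.pullback g).obj H ≅ Coh.structureModule W)) : (Set.range g).Finite := by
  haveI : IsProper g := IsProper.of_comp g B.hom
  have hF : ∀ c : Γ(W, ⊤), c ≠ 0 → IsUnit c := by
    intro c hc
    obtain ⟨a, rfl⟩ := (W7See.bijective_of_isAlgClosed (g ≫ B.hom)).2 c
    exact (isUnit_iff_ne_zero.2 fun h => hc (by rw [h, map_zero])).map _
  obtain ⟨w₀⟩ := (inferInstance : Nonempty W)
  obtain ⟨n, s, hs, haff⟩ := hH.2.2 (g w₀)
  have hn : PicF.IsInvertible (CohB1.tensorPow H (n + 1)) := TMul.isInvertible_tensorPow hH.1 _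
  have htriv : Nonempty ((Scheme.Modules.pullback g).obj (CohB1.tensorPow H (n + 1)) ≅ Coh.structureModule W) := by
    rw [← PicGrp.cls_eq_one_iff (PicLoc.isInvertible_pullback g hn), ← pull_cls g _ hn,
      show PicGrp.cls _ hn = PicGrp.cls H hH.1 ^ (n + 1) from Subtype.ext (PicGrp.cls_pow_val hH.1 _).symm, map_pow,
      pull_cls, (PicGrp.cls_eq_one_iff _).2 e, one_pow]
  obtain ⟨j⟩ := htriv
  let t := (PicLoc.pullbackStructureIso g).symm.hom ≫ (Scheme.Modules.pullback g).map s
  have ht : CohB1.genLocus _ (t ≫ j.hom) = g ⁻¹ᵁ CohB1.genLocus _ s :=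
    (TMul.genLocus_comp t j.hom).trans (TMul.genLocus_pullback g hn s _)
  have htop := genLocus_eq_top_of_ne hF (t ≫ j.hom) (ht.ge (show g w₀ ∈ CohB1.genLocus _ s from hs))
  refine AVAmple.finite_of_subset_affine B (Set.range g) g.isClosedMap.isClosed_range _ haff ?_
  rintro _ ⟨w, rfl⟩
  exact ht.le (htop.ge (Opens.mem_top w))

variable {A : Over (Spec (CommRingCat.of k))} [GrpObj A] [IsProper A.hom] [GeometricallyIntegral A.hom]
  [GrpObj B] [GeometricallyIntegral B.hom]

/-- The translations fixing the pullback of an ample class have finite image. -/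
theorem finite_image_fixing (α : A ⟶ B) [IsMonHom α] {H : B.left.Modules} (hH : CohB1.IsAmple H) :
    ((fun x : 𝟙_ (Over (Spec (CommRingCat.of k))) ⟶ A => x ≫ α) ''
      {x | pc (pc (PicGrp.cls H hH.1) α) (𝟙 A * (toUnit A ≫ x)) = pc (PicGrp.cls H hH.1) α}).Finite := by
  haveI := isCommMonObj_of_isProper_of_geometricallyIntegral B
  set c := pc (PicGrp.cls H hH.1) α with hc
  obtain ⟨T, hT, hTc⟩ := AVAmple.isClosed_invariant (A := A) c
  haveI : IsNoetherian A.left := by
    haveI : IsLocallyNoetherian A.left := LocallyOfFiniteType.isLocallyNoetherian A.hom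
    haveI : CompactSpace A.left := QuasiCompact.compactSpace_of_compactSpace A.hom
    exact {}
  haveI : B.left.IsSeparated := ⟨by
    rw [show Limits.terminal.from B.left = B.hom ≫ Limits.terminal.from _ from Limits.terminal.hom_ext _ _]
    infer_instance⟩
  -- the class `H ⊗ [-1]^*H`
  let ν : B.left ⟶ B.left := (GrpObj.inv (X := B)).left
  have hνν : ν ≫ ν = 𝟙 _ := by simp only [ν, ← Over.comp_left]; rw [GrpObj.inv_comp_inv]; rfl
  haveI : IsIso ν := ⟨ν, hνν, hνν⟩
  have hH' : CohB1.IsAmple ((Scheme.Modules.pullback ν).obj H) := TMul.isAmple_pullback_of_isAffineHom ν hH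
  have hS : CohB1.IsAmple (CohB1.tensorMod H ((Scheme.Modules.pullback ν).obj H)) :=
    TMul.isAmple_tensorMod hH hH'.1 fun x => by
      obtain ⟨n, s, h1, -⟩ := hH'.2.2 x
      exact ⟨n, s, h1⟩
  -- each component maps to finitely many points
  obtain ⟨Z, hZf, hZc, hZi, hZu⟩ := NoetherianSpace.exists_finite_set_isClosed_irreducible hT
  have hfin : (α.left '' T).Finite := by
    rw [hZu, Set.sUnion_eq_biUnion, Set.image_iUnion₂]
    refine hZf.biUnion fun C hC => ?_
    let I := Scheme.IdealSheafData.vanishingIdeal ⟨C, hZc C hC⟩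
    let i := I.subschemeι
    have hrange : Set.range i = C := by
      rw [Scheme.IdealSheafData.range_subschemeι]
      simp [I]
    haveI : IsReduced I.subscheme := inferInstance
    haveI : IrreducibleSpace I.subscheme := by
      obtain ⟨z₀, hz₀⟩ : ∃ z₀, i z₀ = (hZi C hC).genericPoint :=
        hrange.ge ((hZc C hC).closure_eq.le (hZi C hC).isGenericPoint_genericPoint_closure.mem)
      have hd : closure ({z₀} : Set I.subscheme) = Set.univ := by
        rw [i.isClosedEmbedding.isEmbedding.isInducing.closure_eq_preimage_closure_image, Set.image_singleton, hz₀,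
          (hZi C hC).genericPoint_closure_eq, (hZc C hC).closure_eq, ← hrange, Set.preimage_range]
      exact { isPreirreducible_univ := hd ▸ isIrreducible_singleton.closure.2, toNonempty := ⟨z₀⟩ }
    haveI : IsReduced I.subscheme := inferInstance
    haveI : IsIntegral I.subscheme := isIntegral_of_irreducibleSpace_of_isReduced _
    let W : Over (Spec (CommRingCat.of k)) := Over.mk (i ≫ A.hom)
    let w : W ⟶ A := Over.homMk i
    haveI : IsIntegral W.left := inferInstanceAs (IsIntegral I.subscheme)
    haveI : IsReduced W.left := inferInstanceAs (IsReduced I.subscheme)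
    haveI : IsProper W.hom := inferInstanceAs (IsProper (i ≫ A.hom))
    haveI : JacobsonSpace W.left := LocallyOfFiniteType.jacobsonSpace W.hom
    have hadd := AVAmple.additive_of_invariant c w fun y hy => by
      refine ⟨Over.homMk _ ((pointEquivClosedPoint W.hom).symm ⟨y, hy⟩).2,
        congrArg Subtype.val ((pointEquivClosedPoint W.hom).apply_symm_apply ⟨y, hy⟩), (hTc _).1 ?_⟩
      have hy' := congrArg Subtype.val ((pointEquivClosedPoint W.hom).apply_symm_apply ⟨y, hy⟩)
      rw [Over.comp_left, Scheme.Hom.comp_apply]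
      change i _ ∈ T
      exact hZu ▸ Set.mem_sUnion.2 ⟨C, hC, hrange ▸ Set.mem_range_self _⟩
    have h2 := congrArg (pull (lift w⁻¹ (𝟙 W)).left) hadd
    simp only [map_mul, pull_pc, MonObj.comp_mul, lift_fst, lift_snd_assoc, Category.id_comp, inv_mul_cancel,
      W7Cube.pc_one] at h2
    have hg : Nonempty ((Scheme.Modules.pullback (w ≫ α).left).obj
        (CohB1.tensorMod H ((Scheme.Modules.pullback ν).obj H)) ≅ Coh.structureModule W.left) := by
      rw [← PicGrp.cls_eq_one_iff (PicLoc.isInvertible_pullback _ hS.1), ← pull_cls _ _ hS.1,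
        show PicGrp.cls _ hS.1 = PicGrp.cls H hH.1 * PicGrp.cls _ hH'.1 from
          Subtype.ext (PicGrp.cls_mul_cls_val _ _).symm, map_mul, ← pull_cls ν H hH.1, h2]
      simp only [hc, pc, pull_pull, ← Over.comp_left, ν]
      rw [show (w ≫ α) ≫ GrpObj.inv (X := B) = w⁻¹ ≫ α by rw [GrpObj.inv_comp, Hom.inv_def], _root_.mul_comm]
    haveI : IsProper ((w ≫ α).left ≫ B.hom) := by rw [Over.w (w ≫ α)]; infer_instance
    refine (finite_range_of_trivial (w ≫ α).left hS hg).subset ?_
    rintro _ ⟨y, hy, rfl⟩
    obtain ⟨x, rfl⟩ := hrange.ge hy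
    exact ⟨x, rfl⟩
  haveI : LocallyOfFiniteType B.hom := inferInstance
  refine (hfin.preimage (f := fun y : 𝟙_ (Over (Spec (CommRingCat.of k))) ⟶ B => y.left (IsLocalRing.closedPoint k))
    (AVAmple.point_injective (A := B)).injOn).subset ?_
  rintro _ ⟨x, hx, rfl⟩
  exact ⟨x.left (IsLocalRing.closedPoint k), (hTc x).2 hx, rfl⟩

end Groth.Agent.AgVanish
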